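import Mathlib.GroupTheory.Solvable
import Mathlib.GroupTheory.Nilpotent

/-! Derived and central series through conjugation-stable generating sets. -/

set_option autoImplicit false
set_option linter.style.haveILetI false

open scoped commutatorElement

namespace Groth.Agent.SGA3DerLib

variable {G : Type*} [Group G]

theorem commutator_closure_le {A B C : Set G} (hC : ∀ c ∈ C, ∀ g : G, g * c * g⁻¹ ∈ C)
    (h : ∀ a ∈ A, ∀ b ∈ B, ⁅a, b⁆ ∈ C) :
    ⁅Subgroup.closure A, Subgroup.closure B⁆ ≤ Subgroup.closure C := by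
  haveI hN : (Subgroup.closure C).Normal := ⟨fun n hn g => by
    induction hn using Subgroup.closure_induction with
    | mem x hx => exact Subgroup.subset_closure (hC x hx g)
    | one => simp
    | mul x y _ _ hx hy => simpa [mul_assoc] using mul_mem hx hy
    | inv x _ hx => simpa [mul_assoc] using inv_mem hx⟩
  rw [← QuotientGroup.ker_mk' (Subgroup.closure C), ← Subgroup.map_eq_bot_iff, Subgroup.map_commutator,
    MonoidHom.map_closure, MonoidHom.map_closure, Subgroup.commutator_eq_bot_iff_le_centralizer,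
    Subgroup.centralizer_closure, Subgroup.closure_le]
  rintro _ ⟨a, ha, rfl⟩ _ ⟨b, hb, rfl⟩
  have hab : QuotientGroup.mk' (Subgroup.closure C) ⁅a, b⁆ = 1 :=
    (QuotientGroup.eq_one_iff _).2 (Subgroup.subset_closure (h a ha b hb))
  rw [map_commutatorElement, commutatorElement_eq_one_iff_mul_comm] at hab
  exact hab.symm

theorem derivedSeries_eq_closure (S : ℕ → Set G) (h0 : S 0 = Set.univ)
    (hs : ∀ n, S (n + 1) = Set.image2 (fun a b => ⁅a, b⁆) (S n) (S n)) (n : ℕ) :
    derivedSeries G n = Subgroup.closure (S n) ∧ ∀ c ∈ S n, ∀ g : G, g * c * g⁻¹ ∈ S n := by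
  induction n with
  | zero => exact ⟨by simp [h0], by simp [h0]⟩
  | succ n ih =>
    have hc : ∀ c ∈ S (n + 1), ∀ g : G, g * c * g⁻¹ ∈ S (n + 1) := by
      rw [hs]
      rintro _ ⟨a, ha, b, hb, rfl⟩ g
      exact ⟨g * a * g⁻¹, ih.2 a ha g, g * b * g⁻¹, ih.2 b hb g, (conjugate_commutatorElement a b g).symm⟩
    refine ⟨le_antisymm ?_ ?_, hc⟩
    · rw [derivedSeries_succ, ih.1]
      exact commutator_closure_le hc fun a ha b hb => by rw [hs]; exact ⟨a, ha, b, hb, rfl⟩
    · rw [Subgroup.closure_le, hs, derivedSeries_succ, ih.1]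
      rintro _ ⟨a, ha, b, hb, rfl⟩
      exact Subgroup.commutator_mem_commutator (Subgroup.subset_closure ha) (Subgroup.subset_closure hb)

theorem lowerCentralSeries_eq_closure (S : ℕ → Set G) (h0 : S 0 = Set.univ)
    (hs : ∀ n, S (n + 1) = Set.image2 (fun a b => ⁅a, b⁆) (S n) Set.univ) (n : ℕ) :
    Subgroup.lowerCentralSeries (⊤ : Subgroup G) n = Subgroup.closure (S n) ∧
      ∀ c ∈ S n, ∀ g : G, g * c * g⁻¹ ∈ S n := by
  induction n with
  | zero => exact ⟨by simp [h0, Subgroup.lowerCentralSeries], by simp [h0]⟩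
  | succ n ih =>
    have hc : ∀ c ∈ S (n + 1), ∀ g : G, g * c * g⁻¹ ∈ S (n + 1) := by
      rw [hs]
      rintro _ ⟨a, ha, b, -, rfl⟩ g
      exact ⟨g * a * g⁻¹, ih.2 a ha g, g * b * g⁻¹, Set.mem_univ _, (conjugate_commutatorElement a b g).symm⟩
    refine ⟨le_antisymm ?_ ?_, hc⟩
    · rw [Subgroup.lowerCentralSeries_succ, ih.1, ← Subgroup.closure_univ]
      exact commutator_closure_le hc fun a ha b hb => by rw [hs]; exact ⟨a, ha, b, hb, rfl⟩
    · rw [Subgroup.closure_le, hs, Subgroup.lowerCentralSeries_succ, ih.1]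
      rintro _ ⟨a, ha, b, -, rfl⟩
      exact Subgroup.commutator_mem_commutator (Subgroup.subset_closure ha) (Subgroup.mem_top b)

end Groth.Agent.SGA3DerLib
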