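import Groth.Agent.SGA3DerLib.GroupLaws
import Groth.Agent.AlgGrpLib.PointsDense
import Groth.Agent.SGA3xLib.SepFibre
import Groth.Agent.AbSchLib.SmoothReduced
import Mathlib.CategoryTheory.Monoidal.Cartesian.Grp

/-! Solvability and nilpotency class of a smooth group are read on points in an algebraically closed field. -/

set_option autoImplicit false
set_option backward.isDefEq.respectTransparency.types false
set_option linter.style.haveILetI false

universe u

open CategoryTheory Limits MonoidalCategory CartesianMonoidalCategory AlgebraicGeometry MonObj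
open scoped commutatorElement

namespace Groth.Agent.SGA3DerLib

variable {k : Type u} [Field k]

/-- A smooth scheme over a field is geometrically reduced. -/
theorem geometricallyReduced_of_smooth {X : Scheme.{u}} (f : X ⟶ Spec (CommRingCat.of k)) [Smooth f] :
    GeometricallyReduced f :=
  ⟨fun _ _ _ _ _ snd h =>
    haveI : Smooth snd := MorphismProperty.of_isPullback h (inferInstance : Smooth f)
    AbSchLib.isReduced_of_smooth snd⟩

/-- A word of a smooth group which is trivial on points in an algebraically closed field is trivial. -/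
theorem eq_one_of_points (Ω : Type u) [Field Ω] [Algebra k Ω] [IsAlgClosed Ω]
    (G P : Over (Spec (CommRingCat.of k))) [GrpObj G] [Smooth P.hom] (w : P ⟶ G)
    (h : ∀ x : AlgGrpLib.PointsDense.spK k Ω ⟶ P, x ≫ w = 1) : w = 1 := by
  haveI : IsClosedImmersion η[G].left := SGA3xLib.isClosedImmersion_of_section G.hom η[G].left (Over.w η[G])
  let c := pullback.fst w η[G]
  haveI : IsClosedImmersion c.left := MorphismProperty.of_isPullback
    ((IsPullback.of_hasPullback w η[G]).map (Over.forget _)).flip ‹IsClosedImmersion η[G].left›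
  haveI := geometricallyReduced_of_smooth P.hom
  haveI : IsIso c := AlgGrpLib.PointsDense.isIso_of_points k Ω P _ c fun x =>
    ⟨pullback.lift x (toUnit _) ((h x).trans Hom.one_def), pullback.lift_fst _ _ _⟩
  rw [← cancel_epi c, pullback.condition, MonObj.comp_one, Hom.one_def]
  exact congrArg (· ≫ η[G]) (toUnit_unique _ _)

variable (G : Over (Spec (CommRingCat.of k)))

/-- The source of the `n`-th derived word. -/
noncomputable def P : ℕ → Over (Spec (CommRingCat.of k))
  | 0 => G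
  | n + 1 => P n ⊗ P n

/-- The source of the `n`-th central word. -/
noncomputable def Q : ℕ → Over (Spec (CommRingCat.of k))
  | 0 => G
  | n + 1 => Q n ⊗ G

theorem smooth_P [Smooth G.hom] : ∀ n, Smooth (P G n).hom
  | 0 => ‹_›
  | n + 1 => by
    haveI := smooth_P n
    show Smooth (pullback.fst (P G n).hom (P G n).hom ≫ (P G n).hom)
    infer_instance

theorem smooth_Q [Smooth G.hom] : ∀ n, Smooth (Q G n).hom
  | 0 => ‹_›
  | n + 1 => by
    haveI := smooth_Q n
    show Smooth (pullback.fst (Q G n).hom G.hom ≫ (Q G n).hom)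
    infer_instance

variable [GrpObj G]

/-- The derived words. -/
noncomputable def w : (n : ℕ) → (P G n ⟶ G)
  | 0 => 𝟙 G
  | n + 1 => (⁅fst (P G n) (P G n) ≫ w n, snd (P G n) (P G n) ≫ w n⁆ : P G n ⊗ P G n ⟶ G)

/-- The central words. -/
noncomputable def v : (n : ℕ) → (Q G n ⟶ G)
  | 0 => 𝟙 G
  | n + 1 => (⁅fst (Q G n) G ≫ v n, snd (Q G n) G⁆ : Q G n ⊗ G ⟶ G)

theorem comp_commutator {T T' : Over (Spec (CommRingCat.of k))} (g : T' ⟶ T) (a b : T ⟶ G) :
    g ≫ ⁅a, b⁆ = ⁅g ≫ a, g ≫ b⁆ := by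
  simp only [commutatorElement_def, MonObj.comp_mul, GrpObj.comp_inv]

variable (T : Over (Spec (CommRingCat.of k))) (n : ℕ)

theorem derivedSeries_eq : derivedSeries (T ⟶ G) n = Subgroup.closure (Set.range fun x : T ⟶ P G n => x ≫ w G n) := by
  refine (derivedSeries_eq_closure (fun n => Set.range fun x : T ⟶ P G n => x ≫ w G n) ?_ (fun n => ?_) n).1
  · exact Set.eq_univ_of_forall fun x => ⟨x, Category.comp_id x⟩
  · ext c
    constructor
    · rintro ⟨x, rfl⟩
      refine ⟨_, ⟨x ≫ fst (P G n) (P G n), rfl⟩, _, ⟨x ≫ snd (P G n) (P G n), rfl⟩, ?_⟩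
      have e : ∀ y : T ⟶ P G n ⊗ P G n, ⁅(y ≫ fst (P G n) (P G n)) ≫ w G n, (y ≫ snd (P G n) (P G n)) ≫ w G n⁆ =
          y ≫ ⁅fst (P G n) (P G n) ≫ w G n, snd (P G n) (P G n) ≫ w G n⁆ := fun y => by
        rw [comp_commutator, Category.assoc, Category.assoc]
      exact e x
    · rintro ⟨_, ⟨a, rfl⟩, _, ⟨b, rfl⟩, rfl⟩
      refine ⟨lift a b, ?_⟩
      show lift a b ≫ ⁅fst (P G n) (P G n) ≫ w G n, snd (P G n) (P G n) ≫ w G n⁆ = _
      rw [comp_commutator, lift_fst_assoc, lift_snd_assoc]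

theorem lowerCentralSeries_eq :
    Subgroup.lowerCentralSeries (⊤ : Subgroup (T ⟶ G)) n = Subgroup.closure (Set.range fun x : T ⟶ Q G n => x ≫ v G n) := by
  refine (lowerCentralSeries_eq_closure (fun n => Set.range fun x : T ⟶ Q G n => x ≫ v G n) ?_ (fun n => ?_) n).1
  · exact Set.eq_univ_of_forall fun x => ⟨x, Category.comp_id x⟩
  · ext c
    constructor
    · rintro ⟨x, rfl⟩
      refine ⟨_, ⟨x ≫ fst (Q G n) G, rfl⟩, x ≫ snd (Q G n) G, Set.mem_univ _, ?_⟩
      have e : ∀ y : T ⟶ Q G n ⊗ G, ⁅(y ≫ fst (Q G n) G) ≫ v G n, y ≫ snd (Q G n) G⁆ =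
          y ≫ ⁅fst (Q G n) G ≫ v G n, snd (Q G n) G⁆ := fun y => by
        rw [comp_commutator, Category.assoc]
      exact e x
    · rintro ⟨_, ⟨a, rfl⟩, b, -, rfl⟩
      refine ⟨lift a b, ?_⟩
      show lift a b ≫ ⁅fst (Q G n) G ≫ v G n, snd (Q G n) G⁆ = _
      rw [comp_commutator, lift_fst_assoc, lift_snd]

theorem series_iff [Smooth G.hom] (Ω : Type u) [Field Ω] [Algebra k Ω] [IsAlgClosed Ω] :
    ((∀ T : Over (Spec (CommRingCat.of k)), derivedSeries (T ⟶ G) n = ⊥) ↔
      derivedSeries (AlgGrpLib.PointsDense.spK k Ω ⟶ G) n = ⊥) ∧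
    ((∀ T : Over (Spec (CommRingCat.of k)), Subgroup.lowerCentralSeries (⊤ : Subgroup (T ⟶ G)) n = ⊥) ↔
      Subgroup.lowerCentralSeries (⊤ : Subgroup (AlgGrpLib.PointsDense.spK k Ω ⟶ G)) n = ⊥) := by
  haveI := smooth_P G n
  haveI := smooth_Q G n
  refine ⟨⟨fun h => h _, fun h T => ?_⟩, ⟨fun h => h _, fun h T => ?_⟩⟩
  · rw [derivedSeries_eq, Subgroup.closure_eq_bot_iff] at h ⊢
    rintro _ ⟨x, rfl⟩
    simp [eq_one_of_points Ω G (P G n) (w G n) fun y => h ⟨y, rfl⟩]
  · rw [lowerCentralSeries_eq, Subgroup.closure_eq_bot_iff] at h ⊢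
    rintro _ ⟨x, rfl⟩
    simp [eq_one_of_points Ω G (Q G n) (v G n) fun y => h ⟨y, rfl⟩]

end Groth.Agent.SGA3DerLib
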